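import Groth.Agent.GluePairLib.Basic
import Groth.Agent.TorLib.Basic
import Groth.Agent.TorLib.Symm

/-! `Tor_1(R', -)` for a glueing pair. -/

set_option autoImplicit false

universe u

open TensorProduct

namespace Groth.Agent.GluePairTorH7

variable {R R' : Type u} [CommRing R] [CommRing R'] [Algebra R R'] {f : R}

lemma exists_preimage_of_pow_mul_eq_zero (h : EtGlue.IsGlueingPair R R' f) {n : ℕ} {x : R'}
    (hx : algebraMap R R' (f ^ n) * x = 0) :
    ∃ r : R, algebraMap R R' r = x ∧ f ^ n * r = 0 := by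
  have hunit : IsUnit (algebraMap R' (Localization.Away (algebraMap R R' f)) (algebraMap R R' f ^ n)) :=
    IsLocalization.map_units _ (⟨_, n, rfl⟩ : Submonoid.powers (algebraMap R R' f))
  have hx0 : algebraMap R' (Localization.Away (algebraMap R R' f)) x = 0 := by
    refine hunit.mul_right_eq_zero.1 ?_
    rw [← map_mul, ← map_pow, hx, map_zero]
  obtain ⟨r, hr, hr'⟩ := h.2.2.1 x 0 (by rw [hx0, map_zero])
  refine ⟨r, hr, h.2.1 (Prod.ext ?_ ?_)⟩
  · show algebraMap R R' (f ^ n * r) = algebraMap R R' 0
    rw [map_mul, hr, hx, map_zero]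
  · show algebraMap R (Localization.Away f) (f ^ n * r) = algebraMap R _ 0
    rw [map_mul, hr', mul_zero, map_zero]

lemma injective_rTensor_of_torsion (h : EtGlue.IsGlueingPair R R' f) (J : Submodule R R)
    (hJ : ∀ m : J, ∃ n : ℕ, f ^ n • m = 0) : Function.Injective (J.subtype.rTensor R') := by
  rw [← LinearMap.lTensor_inj_iff_rTensor_inj, injective_iff_map_eq_zero]
  intro z hz
  obtain ⟨m, rfl⟩ := (GluePairLib.bijective_one_tmul h.1 hJ).2 z
  have h1 : algebraMap R R' (m : R) = 0 := by
    have := congrArg (TensorProduct.rid R R') hz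
    simpa [Algebra.smul_def] using this
  obtain ⟨n, hn⟩ := hJ m
  have h2 : algebraMap R (Localization.Away f) (m : R) = 0 := by
    have hunit : IsUnit (algebraMap R (Localization.Away f) (f ^ n)) :=
      IsLocalization.map_units _ (⟨_, n, rfl⟩ : Submonoid.powers f)
    refine hunit.mul_right_eq_zero.1 ?_
    rw [← map_mul, show f ^ n * (m : R) = 0 from congrArg Subtype.val hn, map_zero]
  have hm : (m : R) = 0 := h.2.1 (Prod.ext (h1.trans (map_zero _).symm) (h2.trans (map_zero _).symm))
  simp only [Subtype.ext (show (m : R) = ((0 : J) : R) from hm), tmul_zero]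

theorem subsingleton_tor_quot (h : EtGlue.IsGlueingPair R R' f) (J : Submodule R R)
    (hJ : ∀ m : J, ∃ n : ℕ, f ^ n • m = 0) (Q : Type u) [AddCommGroup Q] [Module R Q]
    (g : R →ₗ[R] Q) (hg : Function.Surjective g) (hker : LinearMap.ker g = J) :
    Subsingleton (DRing.Tor R 1 R' Q) := by
  obtain ⟨e⟩ := TorLib.tor_one_symm (A := R) R' Q
  subst hker
  have e' := TorLib.torOneEquivKer (LinearMap.ker g).subtype g R' Subtype.val_injective hg
    (LinearMap.exact_subtype_ker_map g)
  haveI : Subsingleton (LinearMap.ker ((LinearMap.ker g).subtype.rTensor R')) := by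
    rw [LinearMap.ker_eq_bot.2 (injective_rTensor_of_torsion h _ hJ)]
    infer_instance
  exact (e.trans e').toEquiv.subsingleton

theorem subsingleton_tor_torsion (h : EtGlue.IsGlueingPair R R' f) (Q : Type u) [AddCommGroup Q]
    [Module R Q] (hQ : ∀ q : Q, ∃ n : ℕ, f ^ n • q = 0) : Subsingleton (DRing.Tor R 1 R' Q) := by
  classical
  choose n hn using hQ
  let g : (Q →₀ R) →ₗ[R] Q := Finsupp.linearCombination R id
  have hg : Function.Surjective g := fun q => ⟨Finsupp.single q 1, by simp [g]⟩
  let Φ : (Q →₀ R) →ₗ[R] (Q →₀ R) := Finsupp.linearCombination R (fun q => Finsupp.single q (f ^ n q))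
  have hΦ : ∀ u q, Φ u q = f ^ n q * u q := by
    intro u q
    induction u using Finsupp.induction_linear with
    | zero => simp
    | add a b ha hb => simp only [map_add, Finsupp.add_apply, ha, hb, mul_add]
    | single a c => by_cases hq : a = q <;> simp [Φ, hq, mul_comm]
  have hΦker : ∀ u, g (Φ u) = 0 := by
    intro u
    induction u using Finsupp.induction_linear with
    | zero => simp
    | add a b ha hb => rw [map_add, map_add, ha, hb, add_zero]
    | single a c =>
      rw [show Φ (Finsupp.single a c) = Finsupp.single a (c * f ^ n a) by simp [Φ]]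
      simp only [g]
      rw [Finsupp.linearCombination_single, id, mul_smul, hn, smul_zero]
  letI : AddCommGroup ↥(LinearMap.ker g) := Module.addCommMonoidToAddCommGroup R
  let Φ' : (Q →₀ R) →ₗ[R] LinearMap.ker g := Φ.codRestrict _ hΦker
  have htors : ∀ v : LinearMap.ker g ⧸ LinearMap.range Φ', ∃ N : ℕ, f ^ N • v = 0 := by
    intro v
    obtain ⟨v, rfl⟩ := Submodule.mkQ_surjective _ v
    let N := (v : Q →₀ R).support.sup n
    have hN : ∀ q, f ^ n q * (f ^ (N - n q) * (v : Q →₀ R) q) = f ^ N * (v : Q →₀ R) q := by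
      intro q
      by_cases hq : q ∈ (v : Q →₀ R).support
      · rw [← mul_assoc, ← pow_add, Nat.add_sub_cancel' (Finset.le_sup hq)]
      · rw [Finsupp.notMem_support_iff.1 hq]
        simp
    refine ⟨N, ?_⟩
    rw [← map_smul, Submodule.mkQ_apply, Submodule.Quotient.mk_eq_zero]
    refine ⟨Finsupp.onFinset (v : Q →₀ R).support (fun q => f ^ (N - n q) * (v : Q →₀ R) q)
      (fun q hq => Finsupp.mem_support_iff.2 fun h0 => hq (by simp [h0])), Subtype.ext (Finsupp.ext fun q => ?_)⟩
    change Φ _ q = f ^ N * (v : Q →₀ R) q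
    rw [hΦ, Finsupp.onFinset_apply, hN]
  obtain ⟨e⟩ := TorLib.tor_one_symm (A := R) R' Q
  have e' := TorLib.torOneEquivKer (K := ↥(LinearMap.ker g)) (LinearMap.ker g).subtype g R'
    Subtype.val_injective hg (LinearMap.exact_subtype_ker_map g)
  suffices hinj : Function.Injective ((LinearMap.ker g).subtype.rTensor R') by
    haveI : Subsingleton (LinearMap.ker ((LinearMap.ker g).subtype.rTensor R')) := by
      rw [show LinearMap.ker ((LinearMap.ker g).subtype.rTensor R') = ⊥ from
        LinearMap.ker_eq_bot'.2 fun m hm => hinj (hm.trans (map_zero _).symm)]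
      infer_instance
    exact (e.trans e').toEquiv.subsingleton
  rw [← LinearMap.lTensor_inj_iff_rTensor_inj, injective_iff_map_eq_zero]
  intro z hz
  -- the part modulo `range Φ'`
  let ψ : (LinearMap.ker g ⧸ LinearMap.range Φ') →ₗ[R] (Q →₀ R) ⧸ LinearMap.range Φ :=
    Submodule.mapQ _ _ (LinearMap.ker g).subtype (by rintro _ ⟨u, rfl⟩; exact ⟨u, rfl⟩)
  have hψ : Function.Injective ψ := by
    rw [injective_iff_map_eq_zero]
    intro v hv
    obtain ⟨v, rfl⟩ := Submodule.mkQ_surjective _ v
    obtain ⟨u, hu⟩ := (Submodule.Quotient.mk_eq_zero _).1 hv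
    exact (Submodule.Quotient.mk_eq_zero _).2 ⟨u, Subtype.ext hu⟩
  obtain ⟨v, hv⟩ := (GluePairLib.bijective_one_tmul h.1 htors).2
    ((LinearMap.range Φ').mkQ.lTensor R' z)
  have hv0 : (LinearMap.range Φ').mkQ.lTensor R' z = 0 := by
    have htors' : ∀ w : LinearMap.range ψ, ∃ N : ℕ, f ^ N • w = 0 := by
      rintro ⟨_, v, rfl⟩
      obtain ⟨N, hN⟩ := htors v
      exact ⟨N, Subtype.ext (by rw [SetLike.val_smul, ← map_smul, hN, map_zero]; rfl)⟩
    have h1 : ψ.lTensor R' ((1 : R') ⊗ₜ v) = 0 := by
      simp only at hv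
      rw [hv, ← LinearMap.lTensor_comp_apply, show ψ ∘ₗ (LinearMap.range Φ').mkQ =
        (LinearMap.range Φ).mkQ ∘ₗ (LinearMap.ker g).subtype from Submodule.mapQ_mkQ _ _ _,
        LinearMap.lTensor_comp_apply, hz, map_zero]
    -- detect `ψ v` after tensoring: both sides are torsion
    have htG : ∀ w : (Q →₀ R) ⧸ LinearMap.range Φ, ∃ N : ℕ, f ^ N • w = 0 := by
      intro w
      obtain ⟨w, rfl⟩ := Submodule.mkQ_surjective _ w
      refine ⟨w.support.sup n, ?_⟩
      rw [← map_smul, Submodule.mkQ_apply, Submodule.Quotient.mk_eq_zero]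
      refine ⟨Finsupp.onFinset w.support (fun q => f ^ (w.support.sup n - n q) * w q)
        (fun q hq => Finsupp.mem_support_iff.2 fun h0 => hq (by simp [h0])), Finsupp.ext fun q => ?_⟩
      rw [hΦ, Finsupp.onFinset_apply]
      change _ = f ^ _ * w q
      by_cases hq : q ∈ w.support
      · rw [← mul_assoc, ← pow_add, Nat.add_sub_cancel' (Finset.le_sup hq)]
      · rw [Finsupp.notMem_support_iff.1 hq]
        simp
    have h2 : ψ v = 0 := (GluePairLib.bijective_one_tmul h.1 htG).1 (by
      simp only [LinearMap.lTensor_tmul] at h1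
      simpa using h1)
    rw [← hv, show v = 0 from hψ (h2.trans (map_zero ψ).symm)]
    simp
  obtain ⟨w, rfl⟩ := (lTensor_exact R' (LinearMap.exact_map_mkQ_range Φ')
    (Submodule.mkQ_surjective _) z).1 hv0
  -- the part in `range Φ'`
  let E := TensorProduct.finsuppScalarRight R R R' Q
  have hE : ∀ y q, E (Φ.lTensor R' y) q = algebraMap R R' (f ^ n q) * E y q := by
    intro y q
    induction y using TensorProduct.induction_on with
    | zero => simp
    | tmul a u => simp [E, hΦ, Algebra.smul_def, mul_assoc, mul_comm, mul_left_comm]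
    | add a b ha hb => simp only [map_add, Finsupp.add_apply, ha, hb, mul_add]
  rw [← LinearMap.lTensor_comp_apply, show (LinearMap.ker g).subtype ∘ₗ Φ' = Φ from
    LinearMap.subtype_comp_codRestrict _ _ _] at hz
  have hq : ∀ q, ∃ r : R, algebraMap R R' r = E w q ∧ f ^ n q * r = 0 := fun q => by
    refine exists_preimage_of_pow_mul_eq_zero h ?_
    rw [← hE, hz, map_zero, Finsupp.zero_apply]
  choose r hr hr0 using hq
  let u : Q →₀ R := ∑ q ∈ (E w).support, Finsupp.single q (r q)
  have hu : w = (1 : R') ⊗ₜ u := by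
    apply E.injective
    refine Finsupp.ext fun q => ?_
    by_cases hq : q ∈ (E w).support
    · simp only [E, u, TensorProduct.finsuppScalarRight_apply_tmul_apply, Finsupp.finset_sum_apply]
      rw [Finset.sum_eq_single q (fun b _ hb => by simp [hb]) (fun hh => absurd hq hh),
        Finsupp.single_eq_same, Algebra.smul_def, mul_one, hr]
    · rw [Finsupp.notMem_support_iff.1 hq]
      simp only [E, u, TensorProduct.finsuppScalarRight_apply_tmul_apply, Finsupp.finset_sum_apply]
      rw [Finset.sum_eq_zero (fun b hb => by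
        have : b ≠ q := fun e => hq (e ▸ hb)
        simp [this]), zero_smul]
  have hΦu : Φ' u = 0 := Subtype.ext (Finsupp.ext fun q => by
    change Φ u q = 0
    rw [hΦ]
    simp only [u, Finsupp.finset_sum_apply]
    by_cases hq : q ∈ (E w).support
    · rw [Finset.sum_eq_single q (fun b _ hb => by simp [hb]) (fun hh => absurd hq hh),
        Finsupp.single_eq_same, hr0]
    · rw [Finset.sum_eq_zero (fun b hb => by
        have : b ≠ q := fun e => hq (e ▸ hb)
        simp [this]), mul_zero])
  rw [hu, LinearMap.lTensor_tmul, hΦu, tmul_zero]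

end Groth.Agent.GluePairTorH7
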